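import Groth.Prelude.Def_W4stk3formalspacesTaut
import Mathlib.Topology.Algebra.OpenSubgroup

/-!
Closures of ideals in linearly topologized rings, tautness, descent.
-/

namespace Groth.Agent.Lin28

open Filter Topology Set

section One

variable {A : Type*} [CommRing A] [TopologicalSpace A] [IsTopologicalRing A]

theorem mem_closure_ideal {I : Ideal A} {x : A} : x ∈ I.closure ↔ x ∈ closure (I : Set A) :=
  Iff.rfl

theorem le_closure (I : Ideal A) : I ≤ I.closure := fun _ hx => subset_closure hx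

theorem closure_mono_ideal {I J : Ideal A} (h : I ≤ J) : I.closure ≤ J.closure :=
  fun _ hx => closure_mono (fun _ hy => h hy) hx

theorem isClosed_closure_ideal (I : Ideal A) : IsClosed (I.closure : Set A) := by
  rw [Ideal.coe_closure]; exact isClosed_closure

theorem closure_le_of_isClosed {I J : Ideal A} (h : I ≤ J) (hJ : IsClosed (J : Set A)) :
    I.closure ≤ J := fun _ hx => closure_minimal (fun _ hy => h hy) hJ hx

theorem isOpen_of_mem_nhds {I : Ideal A} (h : (I : Set A) ∈ 𝓝 0) : IsOpen (I : Set A) :=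
  AddSubgroup.isOpen_of_mem_nhds I.toAddSubgroup h

theorem mem_nhds_of_isOpen {I : Ideal A} (h : IsOpen (I : Set A)) : (I : Set A) ∈ 𝓝 0 :=
  h.mem_nhds I.zero_mem

theorem isOpen_mono {I J : Ideal A} (h : I ≤ J) (hI : IsOpen (I : Set A)) :
    IsOpen (J : Set A) :=
  isOpen_of_mem_nhds (Filter.mem_of_superset (mem_nhds_of_isOpen hI) (fun _ hx => h hx))

theorem isClosed_of_isOpen {I : Ideal A} (h : IsOpen (I : Set A)) : IsClosed (I : Set A) :=
  AddSubgroup.isClosed_of_isOpen I.toAddSubgroup h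

theorem isOpen_inf {I J : Ideal A} (hI : IsOpen (I : Set A)) (hJ : IsOpen (J : Set A)) :
    IsOpen ((I ⊓ J : Ideal A) : Set A) := by
  rw [Submodule.coe_inf]; exact hI.inter hJ

theorem closure_mul_le (I J : Ideal A) : I.closure * J.closure ≤ (I * J).closure := by
  rw [Ideal.mul_le]
  intro a ha b hb
  exact map_mem_closure₂ continuous_mul ha hb fun x hx y hy => Ideal.mul_mem_mul hx hy

theorem closure_pow_le (I : Ideal A) (n : ℕ) : I.closure ^ n ≤ (I ^ n).closure := by
  induction n with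
  | zero => simpa using le_closure (⊤ : Ideal A)
  | succ n ih =>
    rw [pow_succ, pow_succ]
    exact (Ideal.mul_mono ih le_rfl).trans (closure_mul_le _ _)

theorem exists_open_ideal [IsLinearTopology A A] {U : Set A} (hU : U ∈ 𝓝 (0 : A)) :
    ∃ V : Ideal A, IsOpen (V : Set A) ∧ (V : Set A) ⊆ U := by
  obtain ⟨V, hV, hVU⟩ := IsLinearTopology.hasBasis_open_ideal.mem_iff.1 hU
  exact ⟨V, hV, hVU⟩

theorem exists_open_ideal_closure [IsLinearTopology A A] {U : Set A} (hU : U ∈ 𝓝 (0 : A)) :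
    ∃ V : Ideal A, IsOpen (V : Set A) ∧ (V.closure : Set A) ⊆ U := by
  obtain ⟨V, hV, hVU⟩ := exists_open_ideal hU
  exact ⟨V, hV, fun x hx => hVU (closure_le_of_isClosed le_rfl (isClosed_of_isOpen hV) hx)⟩

theorem closure_le_sup (I : Ideal A) {V : Ideal A} (hV : IsOpen (V : Set A)) :
    I.closure ≤ I ⊔ V :=
  closure_le_of_isClosed le_sup_left (isClosed_of_isOpen (isOpen_mono le_sup_right hV))

theorem mem_closure_of_forall_sup [IsLinearTopology A A] {I : Ideal A} {x : A}
    (h : ∀ V : Ideal A, IsOpen (V : Set A) → x ∈ I ⊔ V) : x ∈ I.closure := by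
  rw [mem_closure_ideal, mem_closure_iff_nhds]
  intro t ht
  have h0 : (fun z => x - z) ⁻¹' t ∈ 𝓝 (0 : A) := by
    apply (continuous_const.sub continuous_id).continuousAt.preimage_mem_nhds
    simpa using ht
  obtain ⟨V, hV, hVt⟩ := exists_open_ideal h0
  obtain ⟨i, hi, v, hv, rfl⟩ := Submodule.mem_sup.1 (h V hV)
  exact ⟨i, by simpa using hVt hv, hi⟩

theorem topologicallyNilpotent_of_mem_closure [IsLinearTopology A A] {I : Ideal A}
    (h : ∀ f ∈ I, IsTopologicallyNilpotent f) :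
    ∀ f ∈ I.closure, IsTopologicallyNilpotent f := by
  intro f hf
  rw [IsTopologicallyNilpotent, Tendsto]
  intro s hs
  obtain ⟨V, hV, hVs⟩ := exists_open_ideal hs
  obtain ⟨i, hi, v, hv, rfl⟩ := Submodule.mem_sup.1 (closure_le_sup I hV hf)
  have h1 : ∀ᶠ n in atTop, i ^ n ∈ V := (h i hi).eventually (mem_nhds_of_isOpen hV)
  rw [Filter.mem_map]
  filter_upwards [h1] with n hn
  apply hVs
  rw [SetLike.mem_coe, ← Ideal.Quotient.eq_zero_iff_mem] at *
  rw [map_pow, map_add]
  rw [map_pow] at hn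
  simp [hv, hn]

theorem closure_map_closure_le {B : Type*} [CommRing B] [TopologicalSpace B] [IsTopologicalRing B]
    (φ : A →+* B) (hφ : Continuous φ) (I : Ideal A) :
    (I.closure.map φ).closure ≤ (I.map φ).closure := by
  refine closure_le_of_isClosed (Ideal.map_le_iff_le_comap.2 fun x hx => ?_)
    (isClosed_closure_ideal _)
  exact map_mem_closure hφ hx fun y hy => Ideal.mem_map_of_mem φ hy

theorem isPreadic_linearTopology (h : LinTop.IsPreadic A) : IsLinearTopology A A := by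
  obtain ⟨I, hI⟩ := h
  have h' := I.isLinearTopology
  unfold IsAdic at hI
  subst hI
  exact h'

theorem isIdealOfDefinition_of_isAdic {I : Ideal A} (hI : IsAdic I) :
    LinTop.IsIdealOfDefinition A I := by
  rw [isAdic_iff] at hI
  refine ⟨by simpa using hI.1 1, fun U hU => ?_⟩
  obtain ⟨n, hn⟩ := hI.2 U hU
  exact ⟨n + 1, n.succ_pos, fun x hx => hn (Ideal.pow_le_pow_right (Nat.le_succ n) hx)⟩

theorem isOpen_pow_of_isPreadic (h : LinTop.IsPreadic A) {I : Ideal A}
    (hI : IsOpen (I : Set A)) (n : ℕ) : IsOpen ((I ^ n : Ideal A) : Set A) := by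
  obtain ⟨J, hJ⟩ := h
  rw [isAdic_iff] at hJ
  obtain ⟨m, hm⟩ := hJ.2 _ (mem_nhds_of_isOpen hI)
  refine isOpen_mono ?_ (hJ.1 (m * n))
  rw [pow_mul]
  exact Ideal.pow_right_mono (fun x hx => hm hx) n

/-- `I` is an ideal of definition all of whose powers have open closure. -/
def WeakAdic (I : Ideal A) : Prop :=
  LinTop.IsIdealOfDefinition A I ∧ ∀ n, IsOpen ((I ^ n).closure : Set A)

theorem weakAdic_basis [IsLinearTopology A A] {I : Ideal A} (hI : LinTop.IsIdealOfDefinition A I)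
    {U : Set A} (hU : U ∈ 𝓝 (0 : A)) : ∃ n : ℕ, ((I ^ n).closure : Set A) ⊆ U := by
  obtain ⟨V, hV, hVU⟩ := exists_open_ideal hU
  obtain ⟨n, -, hn⟩ := hI.2 _ (mem_nhds_of_isOpen hV)
  exact ⟨n, fun x hx => hVU
    (closure_le_of_isClosed (fun y hy => hn hy) (isClosed_of_isOpen hV) hx)⟩

theorem isWeaklyPreadic_of_weakAdic [IsLinearTopology A A] {I : Ideal A} (hI : WeakAdic I) :
    LinTop.IsWeaklyPreadic A := by
  refine ⟨inferInstance, I, fun n => by simpa using hI.2 n, fun U hU => ?_⟩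
  simpa using weakAdic_basis hI.1 hU

theorem exists_weakAdic (h : LinTop.IsWeaklyPreadic A) : ∃ I : Ideal A, WeakAdic I := by
  obtain ⟨-, I, hop, hbas⟩ := h
  refine ⟨I.closure, ⟨by simpa using hop 1, fun U hU => ?_⟩, fun n => ?_⟩
  · obtain ⟨n, hn⟩ := hbas U hU
    refine ⟨n + 1, n.succ_pos, fun x hx => hn ?_⟩
    exact closure_pow_le I n (Ideal.pow_le_pow_right (Nat.le_succ n) hx)
  · refine isOpen_mono (I := (I ^ n).closure) ?_ (by simpa using hop n)
    exact closure_mono_ideal (Ideal.pow_right_mono (le_closure I) n)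

theorem weakAdic_of_isIdealOfDefinition (h : LinTop.IsWeaklyPreadic A) {I : Ideal A}
    (hI : LinTop.IsIdealOfDefinition A I) : WeakAdic I := by
  obtain ⟨J, hJ⟩ := exists_weakAdic h
  refine ⟨hI, fun n => ?_⟩
  obtain ⟨m, -, hm⟩ := hJ.1.2 _ (mem_nhds_of_isOpen hI.1)
  refine isOpen_mono ?_ (hJ.2 (m * n))
  rw [pow_mul]
  exact closure_mono_ideal (Ideal.pow_right_mono (fun x hx => hm hx) n)

theorem isPreadmissible_of_isWeaklyPreadic (h : LinTop.IsWeaklyPreadic A) :
    LinTop.IsPreadmissible A := by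
  obtain ⟨I, hI⟩ := exists_weakAdic h
  exact ⟨h.1, I, hI.1⟩

theorem isCountablyGenerated_of_isWeaklyPreadic (h : LinTop.IsWeaklyPreadic A) :
    (𝓝 (0 : A)).IsCountablyGenerated := by
  obtain ⟨-, I, hop, hbas⟩ := h
  have hb : (𝓝 (0 : A)).HasBasis (fun _ : ℕ => True)
      fun n => closure ((I ^ n : Ideal A) : Set A) :=
    ⟨fun U => ⟨fun hU => (hbas U hU).imp fun n hn => ⟨trivial, hn⟩,
      fun ⟨n, _, hn⟩ => Filter.mem_of_superset
        ((hop n).mem_nhds (subset_closure (zero_mem _))) hn⟩⟩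
  exact hb.isCountablyGenerated

theorem exists_antitone_open_ideals [IsLinearTopology A A]
    (hA : (𝓝 (0 : A)).IsCountablyGenerated) :
    ∃ W : ℕ → Ideal A, Antitone W ∧ (∀ n, IsOpen (W n : Set A)) ∧
      ∀ s ∈ 𝓝 (0 : A), ∃ n, (W n : Set A) ⊆ s := by
  obtain ⟨x, hx⟩ := (𝓝 (0 : A)).exists_antitone_basis
  choose V hVo hVx using fun n => exists_open_ideal (hx.1.mem_of_mem (i := n) trivial)
  let W : ℕ → Ideal A := fun n => Nat.rec (motive := fun _ => Ideal A) (V 0) (fun k I => I ⊓ V (k + 1)) n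
  have hW : ∀ n, IsOpen (SetLike.coe (W n)) ∧ W n ≤ V n := by
    intro n
    induction n with
    | zero => exact ⟨hVo 0, le_rfl⟩
    | succ n ih => exact ⟨isOpen_inf ih.1 (hVo (n + 1)), inf_le_right⟩
  refine ⟨W, antitone_nat_of_succ_le fun n => inf_le_left, fun n => (hW n).1, fun s hs => ?_⟩
  obtain ⟨n, -, hn⟩ := hx.1.mem_iff.1 hs
  exact ⟨n, fun y hy => hn (hVx n ((hW n).2 hy))⟩

end One

section Two

variable {A : Type*} [CommRing A] [TopologicalSpace A]
variable {B : Type*} [CommRing B] [TopologicalSpace B] [IsTopologicalRing B]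

theorem taut_isOpen {φ : A →+* B} (h : LinTop.IsTaut φ) {I : Ideal A} (hI : IsOpen (I : Set A)) :
    IsOpen ((I.map φ).closure : Set B) := by
  simpa using h.2.1 I hI

theorem isTaut_of_isOpen_closure [IsLinearTopology B B] (φ : A →+* B) (hφ : Continuous φ)
    (h : ∀ I : Ideal A, IsOpen (I : Set A) → IsOpen ((I.map φ).closure : Set B)) :
    LinTop.IsTaut φ := by
  refine ⟨hφ, fun I hI => by simpa using h I hI, fun U hU => ?_⟩
  obtain ⟨V, hV, hVU⟩ := exists_open_ideal hU
  refine ⟨V.comap φ, hV.preimage hφ, fun x hx => hVU ?_⟩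
  exact closure_le_of_isClosed Ideal.map_comap_le (isClosed_of_isOpen hV) hx

variable [IsTopologicalRing A]

theorem weakAdic_map [IsLinearTopology B B] {φ : A →+* B} (h : LinTop.IsTaut φ) {I : Ideal A}
    (hI : WeakAdic I) : WeakAdic (I.map φ).closure := by
  refine ⟨⟨taut_isOpen h hI.1.1, fun U hU => ?_⟩, fun n => ?_⟩
  · obtain ⟨V, hV, hVU⟩ := exists_open_ideal hU
    obtain ⟨n, hn0, hn⟩ := hI.1.2 _ (mem_nhds_of_isOpen (I := V.comap φ) (hV.preimage h.1))
    refine ⟨n, hn0, fun x hx => hVU ?_⟩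
    refine closure_le_of_isClosed ?_ (isClosed_of_isOpen hV) (closure_pow_le (I.map φ) n hx)
    rw [← Ideal.map_pow]
    exact Ideal.map_le_iff_le_comap.2 fun y hy => hn hy
  · refine isOpen_mono ?_ (taut_isOpen h (hI.2 n))
    refine (closure_map_closure_le φ h.1 _).trans (closure_mono_ideal ?_)
    rw [Ideal.map_pow]
    exact Ideal.pow_right_mono (le_closure _) n

theorem tautFFlat_comap {φ : A →+* B} (h : LinTop.IsTautFFlat φ) {K : Ideal A}
    (hK : IsOpen (K : Set A)) : (K.map φ).closure.comap φ = K := by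
  refine le_antisymm (fun x hx => ?_)
    (Ideal.le_comap_map.trans (Ideal.comap_mono (le_closure _)))
  have hinj := (h.2 K hK).injective
  rw [← Ideal.Quotient.eq_zero_iff_mem]
  apply hinj
  rw [map_zero]
  exact Ideal.Quotient.eq_zero_iff_mem.2 hx

theorem tautFFlat_comap_le [IsLinearTopology A A] {φ : A →+* B} (h : LinTop.IsTautFFlat φ)
    (L : Ideal A) : (L.map φ).closure.comap φ ≤ L.closure := by
  intro x hx
  refine mem_closure_of_forall_sup fun V hV => ?_
  have ho : IsOpen ((L ⊔ V : Ideal A) : Set A) := isOpen_mono le_sup_right hV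
  rw [← tautFFlat_comap h ho]
  exact closure_mono_ideal (Ideal.map_mono le_sup_left) hx

theorem tautFFlat_isInducing [IsLinearTopology A A] {φ : A →+* B} (h : LinTop.IsTautFFlat φ) :
    IsInducing φ := by
  have hc : IsInducing (φ : A →+ B) := by
    rw [IsTopologicalAddGroup.isInducing_iff_nhds_zero]
    refine le_antisymm (by simpa [map_zero] using (h.1.1.tendsto 0).le_comap) ?_
    intro s hs
    obtain ⟨K, hK, hKs⟩ := exists_open_ideal hs
    refine Filter.mem_comap.2 ⟨_, mem_nhds_of_isOpen (taut_isOpen h.1 hK), fun x hx => hKs ?_⟩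
    rw [← tautFFlat_comap h hK]
    exact hx
  exact hc

theorem tautFFlat_weakAdic [IsLinearTopology A A] {φ : A →+* B} (h : LinTop.IsTautFFlat φ)
    {W : Ideal B} (hW : WeakAdic W) (L : Ideal A) (hL : IsOpen ((L.map φ).closure : Set B))
    (n : ℕ) : IsOpen ((L ^ n).closure : Set A) := by
  obtain ⟨m, -, hm⟩ := hW.1.2 _ (mem_nhds_of_isOpen hL)
  refine isOpen_mono (I := ((W ^ (m * n)).closure).comap φ) ?_ ((hW.2 _).preimage h.1.1)
  refine le_trans (Ideal.comap_mono ?_) (tautFFlat_comap_le h _)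
  refine closure_le_of_isClosed ?_ (isClosed_closure_ideal _)
  rw [pow_mul]
  refine (Ideal.pow_right_mono (fun x hx => hm hx) n).trans ?_
  rw [Ideal.map_pow]
  exact closure_pow_le _ n

end Two

end Groth.Agent.Lin28
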