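import Groth.Agent.Lin28.Surj
import Groth.Agent.Lin28.Ideals
import Mathlib.Topology.Algebra.GroupCompletion
import Mathlib.Topology.Algebra.UniformRing

/-!
Completions of linearly topologized groups and rings.
-/

namespace Groth.Agent.Lin28

open Filter Topology Set UniformSpace

theorem completion_basis {M : Type*} [AddCommGroup M] [UniformSpace M] [IsUniformAddGroup M]
    {ι : Sort*} (W : ι → Set M) (hW : ∀ t ∈ 𝓝 (0 : M), ∃ i, W i ⊆ t)
    {s : Set (Completion M)} (hs : s ∈ 𝓝 (0 : Completion M)) :
    ∃ i, closure ((↑) '' W i : Set (Completion M)) ⊆ s := by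
  obtain ⟨c, ⟨hc, hcc⟩, hcs⟩ := (closed_nhds_basis (0 : Completion M)).mem_iff.1 hs
  have : ((↑) : M → Completion M) ⁻¹' c ∈ 𝓝 (0 : M) := by
    apply (Completion.continuous_coe M).continuousAt.preimage_mem_nhds
    rwa [Completion.coe_zero]
  obtain ⟨i, hi⟩ := hW _ this
  exact ⟨i, (closure_minimal (image_subset_iff.2 hi) hcc).trans hcs⟩

theorem completion_closure_mem_nhds {M : Type*} [AddCommGroup M] [UniformSpace M]
    [IsUniformAddGroup M] {W : Set M} (hW : W ∈ 𝓝 (0 : M)) :
    closure ((↑) '' W : Set (Completion M)) ∈ 𝓝 (0 : Completion M) := by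
  have := (Completion.isDenseInducing_coe (α := M)).closure_image_mem_nhds hW
  rwa [Completion.coe_zero] at this

/-- A homomorphism with dense range satisfying the open mapping hypotheses. -/
theorem surjective_openMap_of_closure_image {P : Type*} [AddCommGroup P] [UniformSpace P]
    [IsUniformAddGroup P] [CompleteSpace P] {Q : Type*} [AddCommGroup Q] [TopologicalSpace Q]
    [IsTopologicalAddGroup Q] [T2Space Q] (f : P →+ Q) (hf : Continuous f) (hd : DenseRange f)
    (U : ℕ → AddSubgroup P) (hU : Antitone U) (hUc : ∀ n, IsClosed (U n : Set P))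
    (hUb : ∀ s ∈ 𝓝 (0 : P), ∃ n, (U n : Set P) ⊆ s)
    (hJo : ∀ n, closure (f '' (U n : Set P)) ∈ 𝓝 (0 : Q))
    (hJb : ∀ s ∈ 𝓝 (0 : Q), ∃ n, closure (f '' (U n : Set P)) ⊆ s) :
    Function.Surjective f ∧ IsOpenMap f := by
  have key := closure_image_eq f hf U hU hUc hUb hJo hJb
  refine ⟨?_, ?_⟩
  · have hm : (f.range : Set Q) ∈ 𝓝 (0 : Q) := by
      refine mem_of_superset (hJo 0) ?_
      rw [key 0]
      exact image_subset_range _ _
    have hc := AddSubgroup.isClosed_of_isOpen _ (f.range.isOpen_of_mem_nhds hm)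
    intro y
    have : y ∈ (f.range : Set Q) := closure_minimal (subset_refl (range f)) hc (hd y)
    exact this
  · intro s hs
    rw [isOpen_iff_mem_nhds]
    rintro _ ⟨x, hx, rfl⟩
    have h0 : (fun z => x + z) ⁻¹' s ∈ 𝓝 (0 : P) := by
      apply (continuous_const_add x).continuousAt.preimage_mem_nhds
      simpa using hs.mem_nhds hx
    obtain ⟨n, hn⟩ := hUb _ h0
    have h1 : (fun z => z - f x) ⁻¹' (f '' (U n : Set P)) ∈ 𝓝 (f x) := by
      apply (continuous_id.sub continuous_const).continuousAt.preimage_mem_nhds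
      rw [← key n]
      simpa using hJo n
    refine mem_of_superset h1 ?_
    rintro z ⟨u, hu, huz⟩
    exact ⟨x + u, hn hu, by rw [map_add, huz]; exact add_sub_cancel (f x) z⟩

theorem map_le_closure_image {A B : Type*} [CommRing A] [CommRing B] [TopologicalSpace B]
    [IsTopologicalRing B] (φ : A →+* B) (hd : DenseRange φ) (I : Ideal A) :
    ((I.map φ : Ideal B) : Set B) ⊆ closure (φ '' (I : Set A)) := by
  let S : AddSubgroup B := (I.toAddSubgroup.map φ.toAddMonoidHom).topologicalClosure
  have hS : (S : Set B) = closure (φ '' (I : Set A)) := rfl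
  intro x hx
  refine Submodule.span_induction ?_ ?_ ?_ ?_ hx
  · exact fun y hy => subset_closure hy
  · rw [← hS]; exact S.zero_mem
  · intro y z _ _ hy hz
    rw [← hS] at *
    exact S.add_mem hy hz
  · intro b y _ hy
    rw [smul_eq_mul]
    refine map_mem_closure₂ continuous_mul (hd b) hy ?_
    rintro _ ⟨a, rfl⟩ _ ⟨i, hi, rfl⟩
    exact ⟨a * i, I.mul_mem_left a hi, map_mul φ a i⟩

variable {A : Type*} [CommRing A] [UniformSpace A] [IsUniformAddGroup A] [IsTopologicalRing A]

theorem completion_ideal_closure (I : Ideal A) :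
    ((I.map (Completion.coeRingHom : A →+* Completion A)).closure : Set (Completion A)) =
      closure ((↑) '' (I : Set A)) := by
  apply Subset.antisymm
  · rw [Ideal.coe_closure]
    exact closure_minimal (map_le_closure_image _ Completion.denseRange_coe I) isClosed_closure
  · rw [Ideal.coe_closure]
    refine closure_mono ?_
    rintro _ ⟨i, hi, rfl⟩
    exact Ideal.mem_map_of_mem Completion.coeRingHom hi

theorem completion_ideal_isOpen {I : Ideal A} (hI : IsOpen (I : Set A)) :
    IsOpen ((I.map (Completion.coeRingHom : A →+* Completion A)).closure : Set (Completion A)) := by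
  apply isOpen_of_mem_nhds
  rw [completion_ideal_closure]
  exact completion_closure_mem_nhds (mem_nhds_of_isOpen hI)

theorem isLinearTopology_completion [IsLinearTopology A A] :
    IsLinearTopology (Completion A) (Completion A) := by
  rw [isLinearTopology_iff_hasBasis_ideal]
  refine ⟨fun s => ⟨fun hs => ?_, fun ⟨I, hI, hIs⟩ => mem_of_superset hI hIs⟩⟩
  obtain ⟨V, hV⟩ := completion_basis (fun V : {V : Ideal A // IsOpen (V : Set A)} => (V.1 : Set A))
    (fun t ht => by
      obtain ⟨V, hV, hVt⟩ := exists_open_ideal ht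
      exact ⟨⟨V, hV⟩, hVt⟩) hs
  refine ⟨(V.1.map Completion.coeRingHom).closure,
    mem_nhds_of_isOpen (completion_ideal_isOpen V.2), ?_⟩
  show ((V.1.map Completion.coeRingHom).closure : Set (Completion A)) ⊆ s
  rw [completion_ideal_closure]
  exact hV

theorem isTaut_coe [IsLinearTopology A A] :
    LinTop.IsTaut (Completion.coeRingHom : A →+* Completion A) := by
  have := isLinearTopology_completion (A := A)
  exact isTaut_of_isOpen_closure _ Completion.continuous_coeRingHom
    fun I hI => completion_ideal_isOpen hI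

end Groth.Agent.Lin28
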