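import Mathlib.Topology.Algebra.IsUniformGroup.Basic
import Mathlib.Topology.Algebra.IsUniformGroup.Constructions
import Mathlib.Topology.Algebra.Module.Basic
import Mathlib.Topology.Algebra.OpenSubgroup
import Mathlib.RingTheory.Ideal.Operations
import Mathlib.RingTheory.Finiteness.Defs

/-!
Successive approximation in complete groups with a basis of subgroups.
-/

namespace Groth.Agent.Lin28

open Filter Topology Set

section Surj

variable {P : Type*} [AddCommGroup P] [UniformSpace P] [IsUniformAddGroup P] [CompleteSpace P]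
variable {Q : Type*} [AddCommGroup Q] [TopologicalSpace Q] [IsTopologicalAddGroup Q] [T2Space Q]

theorem exists_preimage_of_step (f : P →+ Q) (hf : Continuous f)
    (U : ℕ → AddSubgroup P) (hU : Antitone U) (hUc : ∀ n, IsClosed (U n : Set P))
    (hUb : ∀ s ∈ 𝓝 (0 : P), ∃ n, (U n : Set P) ⊆ s)
    (J : ℕ → AddSubgroup Q) (hJ : Antitone J)
    (hJb : ∀ s ∈ 𝓝 (0 : Q), ∃ n, (J n : Set Q) ⊆ s)
    (step : ∀ n, ∀ y ∈ J n, ∃ x ∈ U n, y - f x ∈ J (n + 1)) :
    ∀ n, ∀ y ∈ J n, ∃ x ∈ U n, f x = y := by
  intro n y hy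
  choose g hgU hgJ using step
  let r : ∀ k : ℕ, {z : Q // z ∈ J (n + k)} := fun k =>
    Nat.rec (motive := fun k => {z : Q // z ∈ J (n + k)}) ⟨y, hy⟩
      (fun k z => ⟨z.1 - f (g (n + k) z.1 z.2), hgJ (n + k) z.1 z.2⟩) k
  let a : ℕ → P := fun k => g (n + k) (r k).1 (r k).2
  let s : ℕ → P := fun k => ∑ i ∈ Finset.range k, a i
  have hs : ∀ k, f (s k) = y - (r k).1 := by
    intro k
    induction k with
    | zero => simp [s, r]
    | succ k ih =>
      have h1 : (r (k + 1)).1 = (r k).1 - f (a k) := rfl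
      have h2 : s (k + 1) = s k + a k := by simp [s, Finset.sum_range_succ]
      rw [h1, h2, map_add, ih]; abel
  have hmono : ∀ k l, k ≤ l → s l - s k ∈ U (n + k) := by
    intro k l hkl
    induction l, hkl using Nat.le_induction with
    | base => simp
    | succ l hkl ih =>
      have h2 : s (l + 1) - s k = (s l - s k) + a l := by
        simp [s, Finset.sum_range_succ]; abel
      rw [h2]
      exact add_mem ih (hU (by omega) (hgU (n + l) _ _))
  have hc : CauchySeq s := by
    rw [cauchySeq_iff]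
    intro V hV
    rw [uniformity_eq_comap_nhds_zero P] at hV
    obtain ⟨t, ht, htV⟩ := hV
    obtain ⟨m, hm⟩ := hUb t ht
    refine ⟨m, fun k hk l hl => htV ?_⟩
    apply hm
    have e1 : s k - s m ∈ U m := hU (by omega) (hmono m k hk)
    have e2 : s l - s m ∈ U m := hU (by omega) (hmono m l hl)
    have e3 := sub_mem e2 e1
    simpa using e3
  obtain ⟨x, hx⟩ := cauchySeq_tendsto_of_complete hc
  refine ⟨x, ?_, ?_⟩
  · refine (hUc n).mem_of_tendsto hx (Eventually.of_forall fun k => ?_)
    have := hmono 0 k (Nat.zero_le k)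
    simpa [s] using this
  · have h1 : Tendsto (fun k => f (s k)) atTop (𝓝 (f x)) := (hf.tendsto x).comp hx
    have h0 : Tendsto (fun k => (r k).1) atTop (𝓝 0) := by
      rw [tendsto_nhds]
      intro t ht h0t
      obtain ⟨m, hm⟩ := hJb t (ht.mem_nhds h0t)
      exact eventually_atTop.2 ⟨m, fun k hk => hm (hJ (by omega) (r k).2)⟩
    have h2 : Tendsto (fun k => f (s k)) atTop (𝓝 y) := by
      simp only [hs]
      simpa using (tendsto_const_nhds (x := y)).sub h0
    exact tendsto_nhds_unique h1 h2

/-- If the closures of the images of a closed fundamental system of subgroups are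
neighbourhoods forming a fundamental system, the images are already closed. -/
theorem closure_image_eq (f : P →+ Q) (hf : Continuous f)
    (U : ℕ → AddSubgroup P) (hU : Antitone U) (hUc : ∀ n, IsClosed (U n : Set P))
    (hUb : ∀ s ∈ 𝓝 (0 : P), ∃ n, (U n : Set P) ⊆ s)
    (hJo : ∀ n, closure (f '' (U n : Set P)) ∈ 𝓝 (0 : Q))
    (hJb : ∀ s ∈ 𝓝 (0 : Q), ∃ n, closure (f '' (U n : Set P)) ⊆ s) :
    ∀ n, closure (f '' (U n : Set P)) = f '' (U n : Set P) := by
  let J : ℕ → AddSubgroup Q := fun n => ((U n).map f).topologicalClosure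
  have hJc : ∀ n, (J n : Set Q) = closure (f '' (U n : Set P)) := fun n => rfl
  have key := exists_preimage_of_step f hf U hU hUc hUb J
    (fun m k hmk => by
      intro z hz
      exact closure_mono (image_mono (hU hmk)) hz)
    (fun s hs => hJb s hs)
    (fun n y hy => by
      have hy' : y ∈ closure (f '' (U n : Set P)) := hy
      have hnhd : {z | y - z ∈ J (n + 1)} ∈ 𝓝 y := by
        have : Tendsto (fun z => y - z) (𝓝 y) (𝓝 (0 : Q)) := by
          simpa using (tendsto_const_nhds (x := y)).sub (tendsto_id (x := 𝓝 y))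
        exact this (hJo (n + 1))
      obtain ⟨z, hz1, ⟨x, hx, rfl⟩⟩ := mem_closure_iff_nhds.1 hy' _ hnhd
      exact ⟨x, hx, hz1⟩)
  intro n
  refine Subset.antisymm (fun y hy => ?_) subset_closure
  obtain ⟨x, hx, rfl⟩ := key n y hy
  exact ⟨x, hx, rfl⟩

end Surj

section Smul

variable {R : Type*} [CommRing R] {Q : Type*} [AddCommGroup Q] [Module R Q]

theorem mem_span_range_smul_iff {r : ℕ} (c : Fin r → R) (N : Submodule R Q) (y : Q) :
    y ∈ Ideal.span (range c) • N ↔ ∃ x : Fin r → Q, (∀ i, x i ∈ N) ∧ ∑ i, c i • x i = y := by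
  constructor
  · intro hy
    refine Submodule.smul_induction_on hy ?_ ?_
    · intro a ha m hm
      obtain ⟨d, rfl⟩ := (Submodule.mem_span_range_iff_exists_fun R).1 ha
      refine ⟨fun i => d i • m, fun i => N.smul_mem _ hm, ?_⟩
      rw [Finset.sum_smul]
      refine Finset.sum_congr rfl fun i _ => ?_
      rw [smul_smul, smul_eq_mul, mul_comm]
    · rintro x y ⟨a, ha, rfl⟩ ⟨b, hb, rfl⟩
      exact ⟨a + b, fun i => N.add_mem (ha i) (hb i), by simp [smul_add, Finset.sum_add_distrib]⟩
  · rintro ⟨x, hx, rfl⟩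
    exact Submodule.sum_mem _ fun i _ => Submodule.smul_mem_smul (Ideal.subset_span ⟨i, rfl⟩) (hx i)

variable [UniformSpace Q] [IsUniformAddGroup Q] [T2Space Q] [CompleteSpace Q]
  [ContinuousConstSMul R Q]

/-- If `K` is finitely generated, `F` is a closed fundamental system and the closures of the
`K • F k` are open and form a fundamental system, then `K • F 0` is closed. -/
theorem closure_smul_eq (K : Ideal R) (hK : K.FG) (F : ℕ → Submodule R Q) (hF : Antitone F)
    (hFc : ∀ n, IsClosed (F n : Set Q)) (hFb : ∀ s ∈ 𝓝 (0 : Q), ∃ n, (F n : Set Q) ⊆ s)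
    (hGo : ∀ n, closure ((K • F n : Submodule R Q) : Set Q) ∈ 𝓝 (0 : Q))
    (hGb : ∀ s ∈ 𝓝 (0 : Q), ∃ n, closure ((K • F n : Submodule R Q) : Set Q) ⊆ s) :
    ∀ n, closure ((K • F n : Submodule R Q) : Set Q) = ((K • F n : Submodule R Q) : Set Q) := by
  obtain ⟨r, c, hc⟩ := Submodule.fg_iff_exists_fin_generating_family.1 hK
  subst hc
  let f : (Fin r → Q) →+ Q :=
    { toFun := fun x => ∑ i, c i • x i
      map_zero' := by simp
      map_add' := fun x y => by simp [smul_add, Finset.sum_add_distrib] }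
  let U : ℕ → AddSubgroup (Fin r → Q) := fun n => AddSubgroup.pi univ fun _ => (F n).toAddSubgroup
  have hUcoe : ∀ n, (U n : Set (Fin r → Q)) = Set.pi univ fun _ => (F n : Set Q) := fun n => rfl
  have himg : ∀ n, f '' (U n : Set (Fin r → Q)) =
      ((Ideal.span (range c) • F n : Submodule R Q) : Set Q) := by
    intro n
    ext y
    simp only [hUcoe, mem_image, Set.mem_pi, mem_univ, true_implies, SetLike.mem_coe,
      mem_span_range_smul_iff]
    rfl
  have hf : Continuous f := by
    show Continuous fun x : Fin r → Q => ∑ i, c i • x i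
    fun_prop
  have h := closure_image_eq f hf U
    (fun m k hmk x hx => by
      rw [← SetLike.mem_coe, hUcoe] at hx ⊢
      exact fun i hi => hF hmk (hx i hi))
    (fun n => by rw [hUcoe]; exact isClosed_set_pi fun i _ => hFc n)
    (fun s hs => by
      rw [nhds_pi, Filter.mem_pi] at hs
      obtain ⟨I, hI, t, ht, hts⟩ := hs
      choose N hN using fun i => hFb (t i) (ht i)
      refine ⟨Finset.univ.sup N, fun x hx => hts fun i _ => ?_⟩
      rw [hUcoe] at hx
      exact hN i (hF (Finset.le_sup (Finset.mem_univ i)) (hx i (mem_univ i))))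
    (fun n => by rw [himg]; exact hGo n)
    (fun s hs => by simpa [himg] using hGb s hs)
  intro n
  simpa [himg] using h n

end Smul

end Groth.Agent.Lin28
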